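import Mathlib
import Groth.Agent.Lib.Helper26.LC18
/-!
# Helper23 — UnbLeray.Bound: the uniform vanishing bound of helper26 (LC18), with shifts
-/

set_option autoImplicit false
set_option maxHeartbeats 400000
set_option linter.style.haveILetI false
universe u
open CategoryTheory CategoryTheory.Limits AlgebraicGeometry

attribute [local instance] HasDerivedCategory.standard

namespace Groth.Agent.Lib.Helper23.UnbLeray

open Groth.Agent.Lib.Helper26

variable {X S : Scheme.{u}}

theorem exists_bound (f : X ⟶ S) [QuasiCompact f] [QuasiSeparated f] [CompactSpace S] :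
    ∃ N : ℤ, ∀ (J : CochainComplex X.Modules ℤ), J.IsKInjective → (∀ n, Injective (J.X n)) →
      DCoh.IsQCohD (DerivedCategory.Q.obj J) → ∀ b : ℤ, (∀ m : ℤ, b < m → IsZero (J.homology m)) →
      ∀ m : ℤ, N + b ≤ m →
        IsZero ((((Scheme.Modules.pushforward f).mapHomologicalComplex
          (ComplexShape.up ℤ)).obj J).homology m) := by
  obtain ⟨N, hN⟩ := LC18.exists_bound f
  refine ⟨N, fun J hJ hinj hq b hb m hm => ?_⟩
  haveI := hJ
  have hadm : LC18.Adm (J⟦b⟧) :=
    { kinj := inferInstance
      flasque := fun n => by
        haveI : Injective ((J⟦b⟧).X n) := hinj (n + b)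
        exact Groth.Agent.Lib.Helper2.PushEdge3.isFlasque_of_injective _
      qcoh := LC11.isQCohD_of_iso
        (((DerivedCategory.Q (C := X.Modules)).commShiftIso b).app J).symm
        (LC11.isQCohD_shift _ hq b)
      le := fun k hk => IsZero.of_iso (hb (k + b) (by omega))
        (((HomologicalComplex.homologyFunctor X.Modules (ComplexShape.up ℤ) 0).shiftIso b k (k + b)
          (by omega)).app J) }
  have h1 := hN (J⟦b⟧) hadm (m - b) (by omega)
  refine IsZero.of_iso h1 ?_
  exact (((HomologicalComplex.homologyFunctor S.Modules (ComplexShape.up ℤ) 0).shiftIso b (m - b) m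
      (by omega)).app _).symm ≪≫
    (HomologicalComplex.homologyFunctor _ _ (m - b)).mapIso
      (((Scheme.Modules.pushforward f).mapCochainComplexShiftIso b).app J).symm

end Groth.Agent.Lib.Helper23.UnbLeray
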