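import Mathlib
import Groth.Agent.Lib.Helper8.KInjDer
/-!
# Helper23 — UnbLeray.Tri: triangulated preliminaries
-/

set_option autoImplicit false
set_option maxHeartbeats 400000
set_option linter.style.haveILetI false
universe w v u
open CategoryTheory CategoryTheory.Limits Pretriangulated

namespace Groth.Agent.Lib.Helper23.UnbLeray

variable {C : Type u} [Category.{v} C] [Abelian C]

section Der

variable [HasDerivedCategory.{w} C]

open DerivedCategory

lemma isIso_homologyMap_mor₁ (T : Triangle (DerivedCategory C)) (hT : T ∈ distTriang _)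
    (n₀ n₁ : ℤ) (h : n₀ + 1 = n₁)
    (h₀ : IsZero ((homologyFunctor C n₀).obj T.obj₃))
    (h₁ : IsZero ((homologyFunctor C n₁).obj T.obj₃)) :
    IsIso ((homologyFunctor C n₁).map T.mor₁) := by
  haveI : Epi ((homologyFunctor C n₁).map T.mor₁) :=
    (HomologySequence.epi_homologyMap_mor₁_iff T hT n₁).2 (h₁.eq_of_tgt _ _)
  haveI : Mono ((homologyFunctor C n₁).map T.mor₁) :=
    (HomologySequence.mono_homologyMap_mor₁_iff T hT n₀ n₁ h).2 (h₀.eq_of_src _ _)
  exact isIso_of_mono_of_epi _

lemma isZero_homology_obj₃ (T : Triangle (DerivedCategory C)) (hT : T ∈ distTriang _)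
    (n₀ n₁ : ℤ) (h : n₀ + 1 = n₁)
    (h₀ : Epi ((homologyFunctor C n₀).map T.mor₁))
    (h₁ : Mono ((homologyFunctor C n₁).map T.mor₁)) :
    IsZero ((homologyFunctor C n₀).obj T.obj₃) :=
  (HomologySequence.exact₃ T hT n₀ n₁ h).isZero_of_both_zeros
    ((HomologySequence.epi_homologyMap_mor₁_iff T hT n₀).1 h₀)
    ((HomologySequence.mono_homologyMap_mor₁_iff T hT n₀ n₁ h).1 h₁)

end Der

lemma isKInjective_mappingCone {I' I : CochainComplex C ℤ} [I'.IsKInjective] [I.IsKInjective]
    (ι : I' ⟶ I) : (CochainComplex.mappingCone ι).IsKInjective := by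
  rw [CochainComplex.isKInjective_iff_rightOrthogonal]
  exact (HomotopyCategory.subcategoryAcyclic C).rightOrthogonal.ext_of_isTriangulatedClosed₃ _
    (HomotopyCategory.mappingCone_triangleh_distinguished ι)
    (CochainComplex.IsKInjective.rightOrthogonal I') (CochainComplex.IsKInjective.rightOrthogonal I)

section Lift

attribute [local instance] HasDerivedCategory.standard

open DerivedCategory

/-- lifting a morphism to K-injective resolutions -/
lemma exists_lift {F' F I' I : CochainComplex C ℤ} (i : F' ⟶ F) (a' : F' ⟶ I') (a₀ : F ⟶ I)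
    [QuasiIso a'] [I.IsKInjective] :
    ∃ ι : I' ⟶ I, (HomotopyCategory.quotient C (ComplexShape.up ℤ)).map a' ≫
        (HomotopyCategory.quotient C (ComplexShape.up ℤ)).map ι =
      (HomotopyCategory.quotient C (ComplexShape.up ℤ)).map i ≫
        (HomotopyCategory.quotient C (ComplexShape.up ℤ)).map a₀ := by
  let q := HomotopyCategory.quotient C (ComplexShape.up ℤ)
  have hs : HomotopyCategory.quasiIso C (ComplexShape.up ℤ) (q.map a') := by
    rw [HomotopyCategory.quotient_map_mem_quasiIso_iff, HomologicalComplex.mem_quasiIso_iff]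
    infer_instance
  obtain ⟨g', hg', -⟩ := Groth.Agent.Lib.Helper8.KInjDer.exists_unique_ext
    (J := q.obj I) (show CochainComplex.IsKInjective (q.obj I).as from ‹I.IsKInjective›)
    (q.map a') hs (q.map i ≫ q.map a₀)
  obtain ⟨ι, rfl⟩ := q.map_surjective g'
  exact ⟨ι, hg'⟩

/-- the cones of a morphism and of a lift of it to resolutions are isomorphic in the derived
category -/
lemma nonempty_Q_mappingCone_iso {F' F I' I : CochainComplex C ℤ} (i : F' ⟶ F) (ι : I' ⟶ I)
    (a' : F' ⟶ I') (a₀ : F ⟶ I) [QuasiIso a'] [QuasiIso a₀]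
    (comm : (HomotopyCategory.quotient C (ComplexShape.up ℤ)).map a' ≫
        (HomotopyCategory.quotient C (ComplexShape.up ℤ)).map ι =
      (HomotopyCategory.quotient C (ComplexShape.up ℤ)).map i ≫
        (HomotopyCategory.quotient C (ComplexShape.up ℤ)).map a₀) :
    Nonempty (Q.obj (CochainComplex.mappingCone i) ≅ Q.obj (CochainComplex.mappingCone ι)) := by
  let T₁ := Qh.mapTriangle.obj (CochainComplex.mappingCone.triangleh i)
  let T₂ := Qh.mapTriangle.obj (CochainComplex.mappingCone.triangleh ι)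
  have hT₁ : T₁ ∈ distTriang _ :=
    Qh.map_distinguished _ (HomotopyCategory.mappingCone_triangleh_distinguished i)
  have hT₂ : T₂ ∈ distTriang _ :=
    Qh.map_distinguished _ (HomotopyCategory.mappingCone_triangleh_distinguished ι)
  have comm' : T₁.mor₁ ≫ Q.map a₀ = Q.map a' ≫ T₂.mor₁ := by
    change (Qh (C := C)).map ((HomotopyCategory.quotient C (ComplexShape.up ℤ)).map i) ≫
        (Qh (C := C)).map ((HomotopyCategory.quotient C (ComplexShape.up ℤ)).map a₀) =
      (Qh (C := C)).map ((HomotopyCategory.quotient C (ComplexShape.up ℤ)).map a') ≫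
        (Qh (C := C)).map ((HomotopyCategory.quotient C (ComplexShape.up ℤ)).map ι)
    exact ((Qh (C := C)).map_comp _ _).symm.trans
      ((congrArg (Qh (C := C)).map comm.symm).trans ((Qh (C := C)).map_comp _ _))
  obtain ⟨c, hc₁, hc₂⟩ := complete_distinguished_triangle_morphism T₁ T₂ hT₁ hT₂
    (Q.map a') (Q.map a₀) comm'
  let φ : T₁ ⟶ T₂ :=
    { hom₁ := Q.map a'
      hom₂ := Q.map a₀
      hom₃ := c
      comm₁ := comm'
      comm₂ := hc₁
      comm₃ := hc₂ }
  have h1 : IsIso φ.hom₁ := inferInstanceAs (IsIso (Q.map a'))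
  have h2 : IsIso φ.hom₂ := inferInstanceAs (IsIso (Q.map a₀))
  have h3 : IsIso φ.hom₃ := isIso₃_of_isIso₁₂ φ hT₁ hT₂ h1 h2
  exact ⟨@asIso _ _ _ _ φ.hom₃ h3⟩

end Lift

end Groth.Agent.Lib.Helper23.UnbLeray
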