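import Mathlib
/-!
# Helper23 — UnbLeray.Trunc: the stupid truncation `σ_{>p} K ⟶ K` as a kernel
-/

set_option autoImplicit false
set_option maxHeartbeats 400000
set_option linter.style.haveILetI false
universe v u
open CategoryTheory CategoryTheory.Limits HomologicalComplex ComplexShape

namespace Groth.Agent.Lib.Helper23.UnbLeray

variable {A : Type u} [Category.{v} A] [Abelian A]

/-- the stupid truncation `σ_{≤p} K` -/
noncomputable def sLE (K : CochainComplex A ℤ) (p : ℤ) : CochainComplex A ℤ :=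
  K.stupidTrunc (embeddingUpIntLE p)

lemma hasLift_id (K : CochainComplex A ℤ) (p : ℤ) :
    (embeddingUpIntLE p).HasLift (𝟙 (K.restriction (embeddingUpIntLE p))) :=
  fun _ hj => (hj.false_of_isTruncLE).elim

/-- the projection `K ⟶ σ_{≤p} K` -/
noncomputable def πLE (K : CochainComplex A ℤ) (p : ℤ) : K ⟶ sLE K p :=
  (embeddingUpIntLE p).liftExtend (𝟙 (K.restriction (embeddingUpIntLE p))) (hasLift_id K p)

lemma isZero_sLE_X (K : CochainComplex A ℤ) (p n : ℤ) (hn : p < n) : IsZero ((sLE K p).X n) :=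
  K.isZero_stupidTrunc_X _ n ((notMem_range_embeddingUpIntLE_iff p n).2 hn)

lemma isIso_πLE_f (K : CochainComplex A ℤ) (p n : ℤ) (hn : n ≤ p) : IsIso ((πLE K p).f n) := by
  obtain ⟨k, hk⟩ : ∃ k : ℕ, (embeddingUpIntLE p).f k = n := by
    by_contra h
    push_neg at h
    exact absurd ((notMem_range_embeddingUpIntLE_iff p n).1 h) (by omega)
  exact ((embeddingUpIntLE p).isIso_liftExtend_f_iff
    (𝟙 (K.restriction (embeddingUpIntLE p))) (hasLift_id K p) hk).2 (inferInstanceAs (IsIso (𝟙 _)))

instance (K : CochainComplex A ℤ) (p : ℤ) : Epi (πLE K p) := by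
  apply epi_of_epi_f
  intro n
  by_cases hn : n ≤ p
  · haveI := isIso_πLE_f K p n hn
    infer_instance
  · exact ⟨fun _ _ _ => (isZero_sLE_X K p n (by omega)).eq_of_src _ _⟩

/-- the stupid truncation `σ_{>p} K`, as the kernel of `K ⟶ σ_{≤p} K` -/
noncomputable def sGT (K : CochainComplex A ℤ) (p : ℤ) : CochainComplex A ℤ := kernel (πLE K p)

/-- the inclusion `σ_{>p} K ⟶ K` -/
noncomputable def ιGT (K : CochainComplex A ℤ) (p : ℤ) : sGT K p ⟶ K := kernel.ι (πLE K p)

lemma shortExact_trunc (K : CochainComplex A ℤ) (p : ℤ) :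
    (ShortComplex.mk (ιGT K p) (πLE K p) (kernel.condition _)).ShortExact :=
  { exact := ShortComplex.exact_of_f_is_kernel _ (kernelIsKernel _)
    mono_f := inferInstanceAs (Mono (kernel.ι _))
    epi_g := inferInstanceAs (Epi (πLE K p)) }

lemma isIso_ιGT_f (K : CochainComplex A ℤ) (p n : ℤ) (hn : p < n) : IsIso ((ιGT K p).f n) := by
  have h := (shortExact_iff_degreewise_shortExact _).1 (shortExact_trunc K p) n
  exact h.isIso_f_iff.2 (isZero_sLE_X K p n hn)

lemma isZero_sGT_X (K : CochainComplex A ℤ) (p n : ℤ) (hn : n ≤ p) : IsZero ((sGT K p).X n) := by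
  have h := (shortExact_iff_degreewise_shortExact _).1 (shortExact_trunc K p) n
  exact h.isIso_g_iff.1 (isIso_πLE_f K p n hn)

instance (K : CochainComplex A ℤ) (p : ℤ) : (sGT K p).IsStrictlyGE (p + 1) := by
  rw [CochainComplex.isStrictlyGE_iff]
  intro n hn
  exact isZero_sGT_X K p n (by omega)

/-- a chain map which is an isomorphism in degrees `> p` induces isomorphisms in homology in
degrees `> p + 1` -/
lemma isIso_homologyMap_of_isIso_f {K L : CochainComplex A ℤ} (φ : K ⟶ L) (p : ℤ)
    (hφ : ∀ n, p < n → IsIso (φ.f n)) (m : ℤ) (hm : p + 1 < m) :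
    IsIso (homologyMap φ m) := by
  have h1 : IsIso (φ.f ((ComplexShape.up ℤ).prev m)) := hφ _ (by simp; omega)
  have h2 : IsIso (φ.f m) := hφ _ (by omega)
  have h3 : IsIso (φ.f ((ComplexShape.up ℤ).next m)) := hφ _ (by simp; omega)
  haveI : IsIso ((shortComplexFunctor A (ComplexShape.up ℤ) m).map φ) := by
    rw [ShortComplex.isIso_iff]  -- may not exist
    exact ⟨h1, h2, h3⟩
  exact inferInstanceAs (IsIso (ShortComplex.homologyMap
    ((shortComplexFunctor A (ComplexShape.up ℤ) m).map φ)))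

end Groth.Agent.Lib.Helper23.UnbLeray
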