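import Mathlib
import Groth.Prelude.Def_Coh
import Groth.Prelude.Def_DCoh2
import Groth.Agent.Lib.Helper23.UnbLeray.Trunc
import Groth.Agent.Lib.Helper23.UnbLeray.Tri
import Groth.Agent.Lib.Helper23.UnbLeray.Bound
import Groth.Agent.Lib.Helper23.BddAcyc.Unit
import Groth.Agent.Lib.Helper26.KInjComp
import Groth.Agent.Lib.Helper26.KInjMain
import Groth.Agent.Lib.Helper26.LC8
import Groth.Agent.Lib.Helper28.BiprodQC
import Groth.Agent.Lib.Helper8.SheafModGroth
/-!
# Helper23 — UnbLeray.QC: unbounded complexes of quasi-coherent `f_*`-acyclic modules compute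
`Rf_*`, over a quasi-compact base
-/

set_option autoImplicit false
set_option maxHeartbeats 1000000
set_option linter.style.haveILetI false
universe u
open CategoryTheory CategoryTheory.Limits AlgebraicGeometry Pretriangulated

attribute [local instance] HasDerivedCategory.standard

namespace Groth.Agent.Lib.Helper23.UnbLeray

open Groth.Agent.Lib.Helper26 Groth.Agent.Lib.Helper26.FDim2 Groth.Agent.Lib.Helper26.FDim7
  DerivedCategory

variable {X S : Scheme.{u}}

section Gen

variable {C : Type*} [Category C] [Abelian C]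

/-- homology of `Q.map φ` in terms of the homology of `φ` -/
lemma isIso_homology_Q_map_iff {K L : CochainComplex C ℤ} (φ : K ⟶ L) (m : ℤ) :
    IsIso ((DerivedCategory.homologyFunctor C m).map (DerivedCategory.Q.map φ)) ↔
      IsIso (HomologicalComplex.homologyMap φ m) := by
  have h := NatIso.isIso_map_iff (DerivedCategory.homologyFunctorFactors C m) φ
  exact h

lemma isZero_homology_Q_obj_iff (K : CochainComplex C ℤ) (m : ℤ) :
    IsZero ((DerivedCategory.homologyFunctor C m).obj (DerivedCategory.Q.obj K)) ↔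
      IsZero (K.homology m) :=
  ((DerivedCategory.homologyFunctorFactors C m).app K).isZero_iff

end Gen

/-- the terms of a mapping cone are quasi-coherent -/
lemma isQCoh_mappingCone_X {K L : CochainComplex X.Modules ℤ} (φ : K ⟶ L)
    (hK : ∀ n, Coh.IsQCoh (K.X n)) (hL : ∀ n, Coh.IsQCoh (L.X n)) (n : ℤ) :
    Coh.IsQCoh ((CochainComplex.mappingCone φ).X n) := by
  haveI : (K.X (n + 1)).IsQuasicoherent := hK (n + 1)
  haveI : (L.X n).IsQuasicoherent := hL n
  have h : (K.X (n + 1) ⊞ L.X n).IsQuasicoherent :=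
    Groth.Agent.Lib.Helper28.QCohLoc.isQuasicoherent_biprod
  exact (SheafOfModules.isQuasicoherent.{u} X.ringCatSheaf).prop_of_iso
    (HomologicalComplex.homotopyCofiber.XIsoBiprod φ n (n + 1) rfl).symm h

lemma injective_mappingCone_X {K L : CochainComplex X.Modules ℤ} (φ : K ⟶ L)
    (hK : ∀ n, Injective (K.X n)) (hL : ∀ n, Injective (L.X n)) (n : ℤ) :
    Injective ((CochainComplex.mappingCone φ).X n) := by
  haveI := hK (n + 1)
  haveI := hL n
  exact Injective.of_iso (HomologicalComplex.homotopyCofiber.XIsoBiprod φ n (n + 1) rfl).symm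
    inferInstance


section Main

variable (f : X ⟶ S)

/-- abbreviation: the direct image functor -/
noncomputable abbrev P : X.Modules ⥤ S.Modules := Scheme.Modules.pushforward f

instance : PreservesFiniteLimits (P f) := by
  haveI : (P f).IsRightAdjoint := (Scheme.Modules.pullbackPushforwardAdjunction f).isRightAdjoint
  infer_instance

/-- homology in degree `m` of the image under `G = Q ∘ f_*` of a chain map -/
lemma isIso_homology_G_map_iff {K L : CochainComplex X.Modules ℤ} (φ : K ⟶ L) (m : ℤ) :
    IsIso ((DerivedCategory.homologyFunctor S.Modules m).map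
      ((DCoh.pushKh f).map ((HomotopyCategory.quotient X.Modules (ComplexShape.up ℤ)).map φ))) ↔
      IsIso (HomologicalComplex.homologyMap
        (((P f).mapHomologicalComplex (ComplexShape.up ℤ)).map φ) m) :=
  isIso_homology_Q_map_iff (((P f).mapHomologicalComplex (ComplexShape.up ℤ)).map φ) m

/-- homology of the image under `G` of a complex -/
lemma isZero_homology_G_obj_iff (K : CochainComplex X.Modules ℤ) (m : ℤ) :
    IsZero ((DerivedCategory.homologyFunctor S.Modules m).obj
      ((DCoh.pushKh f).obj ((HomotopyCategory.quotient X.Modules (ComplexShape.up ℤ)).obj K))) ↔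
      IsZero ((((P f).mapHomologicalComplex (ComplexShape.up ℤ)).obj K).homology m) := by
  refine Iff.trans (Iso.isZero_iff ((DerivedCategory.homologyFunctor S.Modules m).mapIso ?_))
    (isZero_homology_Q_obj_iff _ m)
  exact DerivedCategory.Qh.mapIso (((P f).mapHomotopyCategoryFactors (ComplexShape.up ℤ)).app K) ≪≫
    (DerivedCategory.quotientCompQhIso S.Modules).app _

/-- the key step on the side of resolutions -/
lemma isIso_homology_G_map_lift {N : ℤ}
    (hN : ∀ (J : CochainComplex X.Modules ℤ), J.IsKInjective → (∀ n, Injective (J.X n)) →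
      DCoh.IsQCohD (DerivedCategory.Q.obj J) → ∀ b : ℤ, (∀ m : ℤ, b < m → IsZero (J.homology m)) →
      ∀ m : ℤ, N + b ≤ m →
        IsZero ((((P f).mapHomologicalComplex (ComplexShape.up ℤ)).obj J).homology m))
    {F' F I' I : CochainComplex X.Modules ℤ} (i : F' ⟶ F) (ι : I' ⟶ I) (a' : F' ⟶ I')
    (a₀ : F ⟶ I) [QuasiIso a'] [QuasiIso a₀] [I'.IsKInjective] [I.IsKInjective]
    (hinj' : ∀ n, Injective (I'.X n)) (hinj : ∀ n, Injective (I.X n))
    (comm : (HomotopyCategory.quotient X.Modules (ComplexShape.up ℤ)).map a' ≫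
        (HomotopyCategory.quotient X.Modules (ComplexShape.up ℤ)).map ι =
      (HomotopyCategory.quotient X.Modules (ComplexShape.up ℤ)).map i ≫
        (HomotopyCategory.quotient X.Modules (ComplexShape.up ℤ)).map a₀)
    (hF' : ∀ n, Coh.IsQCoh (F'.X n)) (hF : ∀ n, Coh.IsQCoh (F.X n)) (p : ℤ)
    (hi : ∀ n, p < n → IsIso (i.f n)) (m : ℤ) (hm : N + (p + 1) ≤ m - 1) :
    IsIso ((DerivedCategory.homologyFunctor S.Modules m).map
      ((DCoh.pushKh f).map ((HomotopyCategory.quotient X.Modules (ComplexShape.up ℤ)).map ι))) := by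
  let T' := CochainComplex.mappingCone ι
  haveI : T'.IsKInjective := isKInjective_mappingCone ι
  have hT'inj : ∀ n, Injective (T'.X n) := injective_mappingCone_X ι hinj' hinj
  obtain ⟨e⟩ := nonempty_Q_mappingCone_iso i ι a' a₀ comm
  have hT'q : DCoh.IsQCohD (DerivedCategory.Q.obj T') :=
    LC11.isQCohD_of_iso e (LC8.isQCohD_Q (CochainComplex.mappingCone i)
      (isQCoh_mappingCone_X i hF' hF))
  have hT'van : ∀ k : ℤ, p + 1 < k → IsZero (T'.homology k) := by
    intro k hk
    rw [← isZero_homology_Q_obj_iff]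
    refine IsZero.of_iso ?_ ((DerivedCategory.homologyFunctor X.Modules k).mapIso e.symm)
    have hT : (DerivedCategory.Qh.mapTriangle.obj (CochainComplex.mappingCone.triangleh i)) ∈
        distTriang (DerivedCategory X.Modules) :=
      DerivedCategory.Qh.map_distinguished _
        (HomotopyCategory.mappingCone_triangleh_distinguished i)
    have h1 : IsIso ((DerivedCategory.homologyFunctor X.Modules k).map (DerivedCategory.Q.map i)) :=
      (isIso_homology_Q_map_iff i k).2 (isIso_homologyMap_of_isIso_f i p hi k hk)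
    have h2 : IsIso ((DerivedCategory.homologyFunctor X.Modules (k + 1)).map
        (DerivedCategory.Q.map i)) :=
      (isIso_homology_Q_map_iff i (k + 1)).2 (isIso_homologyMap_of_isIso_f i p hi (k + 1) (by omega))
    exact isZero_homology_obj₃ _ hT k (k + 1) rfl
      (show Epi ((DerivedCategory.homologyFunctor X.Modules k).map (DerivedCategory.Q.map i)) from
        inferInstance)
      (show Mono ((DerivedCategory.homologyFunctor X.Modules (k + 1)).map
        (DerivedCategory.Q.map i)) from inferInstance)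
  have hb := hN T' inferInstance hT'inj hT'q (p + 1) hT'van
  have hTG : ((DCoh.pushKh f).mapTriangle.obj (CochainComplex.mappingCone.triangleh ι)) ∈
      distTriang (DerivedCategory S.Modules) :=
    (DCoh.pushKh f).map_distinguished _ (HomotopyCategory.mappingCone_triangleh_distinguished ι)
  exact isIso_homologyMap_mor₁ _ hTG (m - 1) m (by omega)
    ((isZero_homology_G_obj_iff f T' (m - 1)).2 (hb (m - 1) hm))
    ((isZero_homology_G_obj_iff f T' m).2 (hb m (by omega)))

/-- **unbounded Leray over a quasi-compact base** -/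
theorem isIso_unit_of_compactSpace [QuasiCompact f] [QuasiSeparated f] [CompactSpace S]
    [DCoh.HasRpush f] [HasInjectiveResolutions X.Modules]
    (F : CochainComplex X.Modules ℤ) (hq : ∀ n : ℤ, Coh.IsQCoh (F.X n))
    (hac : ∀ (n : ℤ) (i : ℕ), 0 < i → IsZero ((Coh.Rpush f i).obj (F.X n))) :
    IsIso (((DCoh.pushKh f).totalRightDerivedUnit DerivedCategory.Qh
      (HomotopyCategory.quasiIso X.Modules (ComplexShape.up ℤ))).app
      ((HomotopyCategory.quotient X.Modules (ComplexShape.up ℤ)).obj F)) := by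
  haveI : EnoughInjectives X.Modules :=
    Groth.Agent.Lib.Helper8.SheafModGroth.enoughInjectives _ X.ringCatSheaf
  haveI : IsGrothendieckAbelian.{u} X.Modules :=
    Groth.Agent.Lib.Helper8.SheafModGroth.main _ X.ringCatSheaf
  obtain ⟨N, hN⟩ := exists_bound f
  let q := HomotopyCategory.quotient X.Modules (ComplexShape.up ℤ)
  let η := (DCoh.pushKh f).totalRightDerivedUnit DerivedCategory.Qh
    (HomotopyCategory.quasiIso X.Modules (ComplexShape.up ℤ))
  rw [DerivedCategory.isIso_iff]
  intro m
  obtain ⟨p, hp1, hp2⟩ : ∃ p : ℤ, p + 1 < m ∧ N + (p + 1) ≤ m - 1 := by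
    by_cases h : 0 ≤ N
    · exact ⟨m - N - 2, by omega, by omega⟩
    · exact ⟨m - 2, by omega, by omega⟩
  let F' := sGT F p
  let i : F' ⟶ F := ιGT F p
  have hi : ∀ n, p < n → IsIso (i.f n) := isIso_ιGT_f F p
  have hF'q : ∀ n, Coh.IsQCoh (F'.X n) := by
    intro n
    by_cases hn : n ≤ p
    · exact Groth.Agent.Lib.Helper2.RpushQC4.isQuasicoherent_of_isZero _ (isZero_sGT_X F p n hn)
    · haveI := hi n (by omega)
      exact (SheafOfModules.isQuasicoherent.{u} X.ringCatSheaf).prop_of_iso
        (asIso (i.f n)).symm (hq n)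
  have hF'ac : ∀ n, DimLE (P f) 0 (F'.X n) := by
    intro n
    by_cases hn : n ≤ p
    · exact dimLE_zero_obj 0 _ (isZero_sGT_X F p n hn)
    · haveI := hi n (by omega)
      exact DimLE.of_iso (asIso (i.f n)).symm (fun j hj => hac n j hj)
  have hηF' : IsIso (η.app (q.obj F')) :=
    Groth.Agent.Lib.Helper23.BddAcyc.isIso_unit_of_bddBelow (P f)
      (KInjAdjH.hK (B := X.Modules)) F' (p + 1) hF'ac
  obtain ⟨I', a', hI', hqa', -, hinj'⟩ := KInjMain.main F'
  obtain ⟨I, a₀, hI, hqa₀, -, hinj⟩ := KInjMain.main F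
  haveI := hI'
  haveI := hI
  haveI := hqa'
  haveI := hqa₀
  obtain ⟨ι, comm⟩ := exists_lift i a' a₀
  let RG := DCoh.Rpush f
  let H := DerivedCategory.homologyFunctor S.Modules m
  have h1 : IsIso (H.map ((DCoh.pushKh f).map (q.map ι))) :=
    isIso_homology_G_map_lift f hN i ι a' a₀ hinj' hinj comm hF'q hq p hi m hp2
  have h2 : IsIso (H.map ((DCoh.pushKh f).map (q.map i))) :=
    (isIso_homology_G_map_iff f i m).2 (isIso_homologyMap_of_isIso_f _ p (fun n hn => by
      haveI := hi n hn
      exact inferInstanceAs (IsIso ((P f).map (i.f n)))) m hp1)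
  have hηI' : IsIso (η.app (q.obj I')) :=
    KInjComp.isIso_unit_of_isKInjective (DCoh.pushKh f) _ η I'
  have hηI : IsIso (η.app (q.obj I)) :=
    KInjComp.isIso_unit_of_isKInjective (DCoh.pushKh f) _ η I
  have hQ : ∀ {K L : CochainComplex X.Modules ℤ} (φ : K ⟶ L) [QuasiIso φ],
      IsIso ((DerivedCategory.Qh ⋙ RG).map (q.map φ)) := by
    intro K L φ _
    have : IsIso (DerivedCategory.Qh.map (q.map φ)) := inferInstanceAs (IsIso (DerivedCategory.Q.map φ))
    rw [Functor.comp_map]
    infer_instance
  have hQa' := hQ a'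
  have hQa₀ := hQ a₀
  have nat_ι := η.naturality (q.map ι)
  have nat_i := η.naturality (q.map i)
  have h3 : IsIso (H.map ((DerivedCategory.Qh ⋙ RG).map (q.map ι))) := by
    have e : H.map ((DCoh.pushKh f).map (q.map ι)) ≫ H.map (η.app (q.obj I)) =
        H.map (η.app (q.obj I')) ≫ H.map ((DerivedCategory.Qh ⋙ RG).map (q.map ι)) := by
      rw [← H.map_comp, ← H.map_comp, nat_ι]
    have : IsIso (H.map (η.app (q.obj I')) ≫ H.map ((DerivedCategory.Qh ⋙ RG).map (q.map ι))) := by
      rw [← e]; infer_instance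
    exact IsIso.of_isIso_comp_left (H.map (η.app (q.obj I'))) _
  have h4 : IsIso (H.map ((DerivedCategory.Qh ⋙ RG).map (q.map i))) := by
    have e : (DerivedCategory.Qh ⋙ RG).map (q.map a') ≫ (DerivedCategory.Qh ⋙ RG).map (q.map ι) =
        (DerivedCategory.Qh ⋙ RG).map (q.map i) ≫ (DerivedCategory.Qh ⋙ RG).map (q.map a₀) := by
      exact ((DerivedCategory.Qh ⋙ RG).map_comp _ _).symm.trans
        ((congrArg (DerivedCategory.Qh ⋙ RG).map comm).trans
          ((DerivedCategory.Qh ⋙ RG).map_comp _ _))
    have e' := congrArg H.map e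
    rw [H.map_comp, H.map_comp] at e'
    have : IsIso (H.map ((DerivedCategory.Qh ⋙ RG).map (q.map i)) ≫
        H.map ((DerivedCategory.Qh ⋙ RG).map (q.map a₀))) := by
      rw [← e']; infer_instance
    exact IsIso.of_isIso_comp_right _ (H.map ((DerivedCategory.Qh ⋙ RG).map (q.map a₀)))
  have e : H.map ((DCoh.pushKh f).map (q.map i)) ≫ H.map (η.app (q.obj F)) =
      H.map (η.app (q.obj F')) ≫ H.map ((DerivedCategory.Qh ⋙ RG).map (q.map i)) := by
    rw [← H.map_comp, ← H.map_comp, nat_i]
  have : IsIso (H.map ((DCoh.pushKh f).map (q.map i)) ≫ H.map (η.app (q.obj F))) := by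
    rw [e]; infer_instance
  exact IsIso.of_isIso_comp_left (H.map ((DCoh.pushKh f).map (q.map i))) _

end Main

end Groth.Agent.Lib.Helper23.UnbLeray
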