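import Mathlib
import Groth.Agent.Lib.Helper23.UnbLeray.QC
import Groth.Agent.Lib.Helper26.LC18
import Groth.Agent.Lib.Helper26.SuppD3
import Groth.Agent.Lib.Helper2.RpushQC6
/-!
# Helper23 — UnbLeray.Main: unbounded complexes of quasi-coherent `f_*`-acyclic modules compute
`Rf_*` (`f` quasi-compact and quasi-separated, arbitrary base)
-/

set_option autoImplicit false
set_option maxHeartbeats 1000000
set_option linter.style.haveILetI false
universe u
open CategoryTheory CategoryTheory.Limits AlgebraicGeometry Pretriangulated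

attribute [local instance] HasDerivedCategory.standard

namespace Groth.Agent.Lib.Helper23.UnbLeray

open Groth.Agent.Lib.Helper26 DerivedCategory

variable {X S : Scheme.{u}}

/-- the unit at `F` is an isomorphism iff `f_*` preserves the quasi-isomorphism from `F` to a
K-injective resolution -/
lemma isIso_unit_iff_quasiIso (f : X ⟶ S) [DCoh.HasRpush f] {F I : CochainComplex X.Modules ℤ}
    (a₀ : F ⟶ I) [QuasiIso a₀] [I.IsKInjective] :
    IsIso (((DCoh.pushKh f).totalRightDerivedUnit DerivedCategory.Qh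
      (HomotopyCategory.quasiIso X.Modules (ComplexShape.up ℤ))).app
      ((HomotopyCategory.quotient X.Modules (ComplexShape.up ℤ)).obj F)) ↔
    QuasiIso (((P f).mapHomologicalComplex (ComplexShape.up ℤ)).map a₀) := by
  let q := HomotopyCategory.quotient X.Modules (ComplexShape.up ℤ)
  let η := (DCoh.pushKh f).totalRightDerivedUnit DerivedCategory.Qh
    (HomotopyCategory.quasiIso X.Modules (ComplexShape.up ℤ))
  have nat := η.naturality (q.map a₀)
  have h1 : IsIso (η.app (q.obj I)) :=
    KInjComp.isIso_unit_of_isKInjective (DCoh.pushKh f) _ η I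
  have h2 : IsIso ((DerivedCategory.Qh ⋙ DCoh.Rpush f).map (q.map a₀)) := by
    have : IsIso (DerivedCategory.Qh.map (q.map a₀)) :=
      inferInstanceAs (IsIso (DerivedCategory.Q.map a₀))
    rw [Functor.comp_map]
    infer_instance
  rw [← DerivedCategory.isIso_Q_map_iff_quasiIso]
  change _ ↔ IsIso ((DCoh.pushKh f).map (q.map a₀))
  constructor
  · intro h
    have : IsIso ((DCoh.pushKh f).map (q.map a₀) ≫ η.app (q.obj I)) := by
      rw [nat]; infer_instance
    exact IsIso.of_isIso_comp_right _ (η.app (q.obj I))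
  · intro h
    have : IsIso (η.app (q.obj F) ≫ (DerivedCategory.Qh ⋙ DCoh.Rpush f).map (q.map a₀)) := by
      rw [← nat]; infer_instance
    exact IsIso.of_isIso_comp_right _ ((DerivedCategory.Qh ⋙ DCoh.Rpush f).map (q.map a₀))

/-- quasi-isomorphisms of complexes of modules can be detected locally -/
lemma quasiIso_of_locally {K L : CochainComplex S.Modules ℤ} (ψ : K ⟶ L)
    (h : ∀ x : S, ∃ V : S.Opens, x ∈ V ∧ QuasiIso ((DCoh.restrictCx V).map ψ)) : QuasiIso ψ := by
  rw [RGPushC.quasiIso_iff_acyclic_mappingCone]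
  intro n
  rw [HomologicalComplex.exactAt_iff_isZero_homology]
  apply LC18.isZero_of_locally
  intro x
  obtain ⟨V, hxV, hV⟩ := h x
  refine ⟨V, hxV, ?_⟩
  have hac := (RGPushC.quasiIso_iff_acyclic_mappingCone _).1 hV n
  have hac' : ((DCoh.restrictCx V).obj (CochainComplex.mappingCone ψ)).ExactAt n :=
    hac.of_iso (CochainComplex.mappingCone.mapHomologicalComplexIso ψ
      (Scheme.Modules.restrictFunctor V.ι)).symm
  rw [HomologicalComplex.exactAt_iff_isZero_homology] at hac'
  exact IsZero.of_iso hac'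
    (SuppD2.homologyMapIso (Scheme.Modules.restrictFunctor V.ι) _ n).symm

/-- open base change for direct images, on complexes -/
noncomputable def bcCx (f : X ⟶ S) (V : S.Opens) :
    (P f).mapHomologicalComplex (ComplexShape.up ℤ) ⋙ DCoh.restrictCx V ≅
      DCoh.restrictCx (f ⁻¹ᵁ V) ⋙
        (P (f ∣_ V)).mapHomologicalComplex (ComplexShape.up ℤ) :=
  Functor.mapHomologicalComplexCompIso (OpenBC1.bc f V) (ComplexShape.up ℤ) ≪≫
    (Functor.mapHomologicalComplexCompIso (Iso.refl
      (Scheme.Modules.restrictFunctor (f ⁻¹ᵁ V).ι ⋙ Scheme.Modules.pushforward (f ∣_ V)))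
      (ComplexShape.up ℤ)).symm

/-- **unbounded Leray**: for `f` quasi-compact and quasi-separated, complexes of quasi-coherent
`f_*`-acyclic modules compute `Rf_*` -/
theorem isIso_unit (f : X ⟶ S) [QuasiCompact f] [QuasiSeparated f]
    [HasInjectiveResolutions X.Modules] [DCoh.HasRpush f]
    (F : CochainComplex X.Modules ℤ) (hq : ∀ n : ℤ, Coh.IsQCoh (F.X n))
    (hac : ∀ (n : ℤ) (i : ℕ), 0 < i → IsZero ((Coh.Rpush f i).obj (F.X n))) :
    IsIso (((DCoh.pushKh f).totalRightDerivedUnit DerivedCategory.Qh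
      (HomotopyCategory.quasiIso X.Modules (ComplexShape.up ℤ))).app
      ((HomotopyCategory.quotient X.Modules (ComplexShape.up ℤ)).obj F)) := by
  obtain ⟨I, a₀, hI, hqa₀, -, -⟩ := KInjMain.main F
  haveI := hI
  haveI := hqa₀
  rw [isIso_unit_iff_quasiIso f a₀]
  apply quasiIso_of_locally
  intro x
  obtain ⟨_, ⟨(V : S.Opens), (hV : IsAffineOpen V), rfl⟩, (hxV : x ∈ V), -⟩ :=
    S.isBasis_affineOpens.exists_subset_of_mem_open (Set.mem_univ x) isOpen_univ
  refine ⟨V, hxV, ?_⟩
  have e : Arrow.mk ((DCoh.restrictCx V).map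
        (((P f).mapHomologicalComplex (ComplexShape.up ℤ)).map a₀)) ≅
      Arrow.mk (((P (f ∣_ V)).mapHomologicalComplex (ComplexShape.up ℤ)).map
        ((DCoh.restrictCx (f ⁻¹ᵁ V)).map a₀)) :=
    Arrow.isoMk ((bcCx f V).app F) ((bcCx f V).app I) ((bcCx f V).hom.naturality a₀).symm
  rw [quasiIso_iff_of_arrow_mk_iso _ _ e]
  haveI : DCoh.HasRpush (f ∣_ V) := SuppD3.hasRpush _
  haveI : IsAffine (V : Scheme.{u}) := hV
  haveI : CompactSpace (V : Scheme.{u}) := inferInstance
  haveI : QuasiIso ((DCoh.restrictCx (f ⁻¹ᵁ V)).map a₀) := inferInstance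
  haveI : HasInjectiveResolutions ((f ⁻¹ᵁ V : X.Opens) : Scheme.{u}).Modules := inferInstance
  rw [← isIso_unit_iff_quasiIso (f ∣_ V) ((DCoh.restrictCx (f ⁻¹ᵁ V)).map a₀)]
  refine isIso_unit_of_compactSpace (f ∣_ V) _ (fun n => ?_) (fun n i hi => ?_)
  · haveI : (F.X n).IsQuasicoherent := hq n
    exact (inferInstance : ((Scheme.Modules.restrictFunctor (f ⁻¹ᵁ V).ι).obj (F.X n)).IsQuasicoherent)
  · obtain ⟨e'⟩ := Groth.Agent.Lib.Helper2.RpushQC6.nonempty_restrict_Rpush_iso f V (F.X n) i
    refine IsZero.of_iso ?_ e'.symm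
    exact (Scheme.Modules.restrictFunctor V.ι).map_isZero (hac n i hi)

end Groth.Agent.Lib.Helper23.UnbLeray
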